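import Cfsg.Agent.Lib.CosetEnum.Defs

/-! Generated table data. -/

set_option autoImplicit false
set_option maxRecDepth 20000

namespace Cfsg.Lib.CosetEnum.HeS44

/-- Table data. -/
def orb0_0_0 : Tab :=
  (.node 1 (.leaf 0x6d40000880000200003870000840000400005200000800000400006dc00007400001000043700006c00004000042c00006c0000000004360000680000300004510000640000600005480000600000600000e600006000003000015400006000002000048e00005c0000600003c300005c0000200006eb0000580000400006ea00005800001000053800005400004000078600005400002000034700005000004000043300005000002000043000004c0000600007070000480000400006ca0000440000600007530000400000600000a90000400000400000a700004000002000039600003c00006000056700003c0000200003c20000380000400003c400003400004000053a00003000004000052b0000300000300006c400003000000000054600002c0000400003b500002c00003000054500002c00002000023e00002c0000000002b30000280000600003950000240000600000db0000240000300000da00002400001000025f0000200000400005560000200000200006c900001c00006000039400001800006000008c0000180000200006e90000140000600000d50000140000400000d90000140000100003bc0000100000400005550000100000300005570000100000000006cb00000c00006000039100000800006000008e00000800005000008d0000080000200003a600000400006000008700000400005000005100000400004000008900000400002000056500000000006000005400000000005000005200000000004000004f00000000003000002e00000000000) (.node 1 (.leaf 0x6500019800005000010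30001980000200007d80001840000100008080001740000600001850001740000400005a10001680000400001d10001600000200005f600015c00003000022400015800006000071900015400001000034800014800002000034600014400002000014000014000006000071a00014000002000013b00013c00006000045600013c0000300006d200013800002000069e00013400006000079800012c0000400004af00012c00002000047100012800003000049e00012400006000006400012000002000060a00011c00006000003800011c0000500000ac00011c0000400006d10001100000200005d000010c0000300005390000f80000200005e00000dc0000300006dd0000dc0000200005cc0000d80000600007c00000d40000600002210000d40000400002200000d40000100006ef0000d00000600002ff0000d00000200007180000cc0000600005720000cc00003000015b0000c80000600005710000c80000200007dd0000c40000400006d00000c00000200006410000bc0000100001f70000b80000200004350000b40000400004e70000b00000400007ba0000ac0000600005f70000ac0000200007d10000a80000400007780000a40000400006040000a40000200006580000a000006000060e00009c00006000006300009c0000500000aa00009c00004000006700009c0000100006f50000940000300006f40000940000100006f300009000006000057000009000002000055d00008c00006000057400008c00002000054900008800006) (.leaf 0xab0001f80000300001070001f80000100001020001ec0000200001f90001c40000400001f80001c40000300002030001b80000600004aa0001a800003000031a00019c00006)))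

/-- Table data. -/
def orb0_0 : Tab :=
  orb0_0_0

end Cfsg.Lib.CosetEnum.HeS44
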