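import Cfsg.Agent.Lib.CosetEnum.Defs

/-! Generated table data. -/

set_option autoImplicit false
set_option maxRecDepth 20000

namespace Cfsg.Lib.CosetEnum.HeS44

/-- Table data. -/
def orb1_0_0 : Tab :=
  (.node 1 (.leaf 0x3e20000640000600001a10000640000400001a000006400002000027100006000005000019e00006000004000019c00006000002000034000005c0000200005ae0000540000400005ac0000540000300002910000540000200005c900005000006000019a00005000004000019900005000003000019800005000001000068100004c0000600001f400004c0000200004d800004800004000048900004400004000044100004000004000044800003c0000400002e300003c0000200004640000380000600001220000380000100005ed0000340000400004630000340000200002df00003000006000012100003000001000029b00002c0000600004d700002c00004000027000002c00003000058f00002c00002000042700002c0000000002a800002800006000010800002800002000041000002400006000019d00002000006000011300002000005000011100002000004000011000002000003000010f0000200000100004da00001c0000400005f300001c00003000040600001800006000010e00001800002000033f0000140000400003df0000140000300004120000140000200004470000140000000002c50000100000600000ba0000100000200005c000000c0000600000b900000c0000200003e00000080000600000ae0000080000400000b30000080000300000b20000080000200005ad0000040000600000b10000040000100004d900000000006000007300000000004000007200000000003000006f00000000001000006e00000000000000004100000000000) (.node 1 (.leaf 0x2010001cc0000200005cb0001c80000100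005b00001c00000100004fa0001b80000600001860001a00000600006c000019c0000200004290001940000200006a60001880000600003e30001880000200002260001840000200003e400018000003000041d00018000001000035400017c00006000041b00017c0000200005af00016c00002000040800016400002000051900015800006000035900015800005000017f00015000002000021d0001340000600005c400013400002000059000012c00002000021c0001280000600005d60001240000200005170001100000600004150001100000200002a90001040000100004fb0001000000600002730001000000300002720001000000100003700000f80000600002a30000f80000200002a10000f40000400002080000ec00005000021e0000e40000100007120000e00000200004070000d80000400005180000d00000600002930000cc0000400004190000c80000600002a00000c80000500002920000c80000400002900000c800002000014e0000c00000100002fd0000b400006000033e0000b40000200002e10000a40000600001c50000a40000200002e000009c0000100001c400009400002000041300009000004000072000008c0000600003e10000880000400005d500008000004000042800007c0000400004050000780000600001880000780000300005c100007400004000029900007400002000029c00007000004000018700006c0000600001a500006c0000100001a600006800005000018900006800002) (.leaf 0x36d00021800004000021f00020c0000600007130002000000200001530001fc0000100007310001f80000200007c50001e000002000015a0001d80000100005920001d000003)))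

/-- Table data. -/
def orb1_0 : Tab :=
  orb1_0_0

end Cfsg.Lib.CosetEnum.HeS44
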