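import Cfsg.Agent.Lib.CosetEnum.HeS44.TabF_Data0
import Cfsg.Agent.Lib.CosetEnum.HeS44.TabC_Data0
import Cfsg.Agent.Lib.CosetEnum.HeS44.TabC_Data1
import Cfsg.Agent.Lib.CosetEnum.HeS44.TabC_Data2
import Cfsg.Agent.Lib.CosetEnum.HeS44.TabC_Data3
import Cfsg.Agent.Lib.CosetEnum.HeS44.TabC_Data4
import Cfsg.Agent.Lib.CosetEnum.HeS44.TabZ_Data0
import Cfsg.Agent.Lib.CosetEnum.HeS44.TabP_Data0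
import Cfsg.Agent.Lib.CosetEnum.HeS44.Orb0_Data0
import Cfsg.Agent.Lib.CosetEnum.HeS44.Pos0_Data0
import Cfsg.Agent.Lib.CosetEnum.HeS44.Orb1_Data0
import Cfsg.Agent.Lib.CosetEnum.HeS44.Pos1_Data0
import Cfsg.Agent.Lib.CosetEnum.HeS44.Orb2_Data0
import Cfsg.Agent.Lib.CosetEnum.HeS44.Pos2_Data0
import Cfsg.Agent.Lib.CosetEnum.HeS44.Orb3_Data0
import Cfsg.Agent.Lib.CosetEnum.HeS44.Pos3_Data0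

/-! Generated certificate. -/

set_option autoImplicit false
set_option maxRecDepth 20000

namespace Cfsg.Lib.CosetEnum.HeS44

/-- Table. -/
def tabF : Tab :=
  tabF_0

/-- Table. -/
def tabC : Tab :=
  (.node 4096 (.node 2048 tabC_0 tabC_1) (.node 2048 tabC_2 (.node 2048 tabC_3 tabC_4)))

/-- Table. -/
def tabZ : Tab :=
  tabZ_0

/-- Table. -/
def tabP : Tab :=
  tabP_0

/-- Table. -/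
def orb0 : Tab :=
  orb0_0

/-- Table. -/
def pos0 : Tab :=
  pos0_0

/-- Table. -/
def orb1 : Tab :=
  orb1_0

/-- Table. -/
def pos1 : Tab :=
  pos1_0

/-- Table. -/
def orb2 : Tab :=
  orb2_0

/-- Table. -/
def pos2 : Tab :=
  pos2_0

/-- Table. -/
def orb3 : Tab :=
  orb3_0

/-- Table. -/
def pos3 : Tab :=
  pos3_0

/-- The shifts in use. -/
def relWords : List (List Nat) :=
  [[0, 0],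
    [1, 1],
    [2, 2],
    [3, 3],
    [4, 4],
    [5, 5],
    [6, 6],
    [0, 1, 0, 1, 0, 1, 0, 1],
    [0, 2, 0, 2],
    [0, 3, 0, 3],
    [0, 4, 0, 4],
    [0, 5, 0, 5],
    [0, 6, 0, 6],
    [1, 2, 1, 2, 1, 2],
    [1, 3, 1, 3],
    [1, 4, 1, 4],
    [1, 5, 1, 5],
    [1, 6, 1, 6],
    [2, 3, 2, 3, 2, 3, 2, 3, 2, 3, 2, 3, 2, 3, 2, 3, 2, 3, 2, 3],
    [2, 4, 2, 4],
    [2, 5, 2, 5],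
    [2, 6, 2, 6],
    [3, 4, 3, 4, 3, 4],
    [3, 5, 3, 5, 3, 5],
    [3, 6, 3, 6, 3, 6],
    [4, 5, 4, 5],
    [4, 6, 4, 6],
    [5, 6, 5, 6, 5, 6, 5, 6],
    [4, 6, 5, 6, 5],
    [4, 2, 1, 0, 2, 1, 0, 2, 1, 0],
    [0, 3, 2, 3, 2, 3, 2, 3, 2, 3, 2],
    [2, 3, 5, 6, 2, 3, 5, 6, 2, 3, 5, 6, 2, 3, 5, 6],
    [2, 0, 2, 0],
    [2, 1, 2, 1, 2, 1],
    [2, 1, 0, 2, 1, 0, 2, 1, 0, 4],
    [2, 1, 0, 4, 2, 1, 0, 2, 1, 0],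
    [4, 3, 4, 3, 4, 3],
    [3, 1, 3, 1],
    [3, 0, 3, 0],
    [4, 0, 4, 0],
    [4, 2, 4, 2],
    [4, 1, 4, 1],
    [0, 2, 1, 0, 4, 2, 1, 0, 2, 1],
    [5, 2, 5, 2],
    [6, 5, 6, 5, 4],
    [3, 2, 3, 2, 3, 2, 3, 2, 3, 2, 0],
    [2, 0, 3, 2, 3, 2, 3, 2, 3, 2, 3],
    [4, 5, 6, 5, 6],
    [5, 0, 5, 0],
    [5, 1, 5, 1],
    [5, 4, 5, 4],
    [0, 4, 2, 1, 0, 2, 1, 0, 2, 1],
    [2, 3, 2, 3, 2, 3, 2, 3, 2, 0, 3],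
    [3, 2, 3, 2, 3, 2, 3, 2, 0, 3, 2],
    [3, 2, 3, 2, 3, 2, 0, 3, 2, 3, 2],
    [0, 1, 2, 4, 0, 1, 2, 0, 1, 2],
    [1, 0, 2, 1, 0, 4, 2, 1, 0, 2],
    [1, 0, 2, 1, 0, 2, 1, 0, 4, 2],
    [5, 6, 5, 4, 6],
    [5, 4, 6, 5, 6],
    [1, 0, 1, 0, 1, 0, 1, 0],
    [4, 0, 1, 2, 0, 1, 2, 0, 1, 2],
    [6, 2, 6, 2],
    [3, 2, 0, 3, 2, 3, 2, 3, 2, 3, 2],
    [3, 2, 3, 2, 0, 3, 2, 3, 2, 3, 2],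
    [3, 2, 3, 0, 2, 3, 2, 3, 2, 3, 2],
    [6, 0, 6, 0],
    [1, 0, 4, 2, 1, 0, 2, 1, 0, 2],
    [2, 3, 2, 3, 2, 3, 2, 0, 3, 2, 3],
    [2, 3, 2, 3, 2, 0, 3, 2, 3, 2, 3],
    [2, 3, 2, 3, 2, 3, 0, 2, 3, 2, 3],
    [2, 3, 2, 3, 0, 2, 3, 2, 3, 2, 3],
    [2, 3, 0, 2, 3, 2, 3, 2, 3, 2, 3],
    [6, 4, 5, 6, 5],
    [6, 1, 6, 1],
    [1, 2, 0, 1, 2, 0, 1, 2, 4, 0],
    [6, 4, 6, 4],
    [6, 5, 4, 6, 5],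
    [6, 5, 6, 4, 5],
    [6, 3, 6, 3, 6, 3],
    [5, 3, 5, 3, 5, 3],
    [2, 3, 2, 0, 3, 2, 3, 2, 3, 2, 3],
    [1, 2, 0, 1, 2, 4, 0, 1, 2, 0],
    [5, 6, 4, 5, 6],
    [3, 2, 3, 2, 3, 0, 2, 3, 2, 3, 2],
    [5, 6, 5, 6, 4],
    [2, 0, 1, 2, 0, 1, 2, 4, 0, 1],
    [0, 2, 1, 0, 2, 1, 0, 4, 2, 1],
    [2, 4, 0, 1, 2, 0, 1, 2, 0, 1],
    [6, 5, 6, 5, 6, 5, 6, 5],
    [1, 2, 4, 0, 1, 2, 0, 1, 2, 0]]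

/-- Subgroup words. -/
def subWords : List (List Nat) :=
  [[0],
    [2],
    [3],
    [4],
    [5],
    [1, 0, 1, 0],
    [4, 3, 2, 1, 4, 3, 2, 1, 4, 3, 2, 1, 4, 3, 2, 1, 4, 3, 2, 1, 4, 3, 2, 1, 4, 3, 2, 1]]

/-- The certificate. -/
def step : StepCert :=
  ⟨relWords, subWords, [0, 1, 2, 3, 4, 5, 6], tabF, tabC, tabZ, tabP, 5107, 8599, 2058, 7⟩

/-- All relator words. -/
def baseWords : List (List Nat) :=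
  [[0, 0],
    [1, 0, 1, 0, 1, 0, 1, 0],
    [2, 0, 2, 0],
    [3, 0, 3, 0],
    [4, 0, 4, 0],
    [5, 0, 5, 0],
    [6, 0, 6, 0],
    [0, 1, 0, 1, 0, 1, 0, 1],
    [1, 1],
    [2, 1, 2, 1, 2, 1],
    [3, 1, 3, 1],
    [4, 1, 4, 1],
    [5, 1, 5, 1],
    [6, 1, 6, 1],
    [0, 2, 0, 2],
    [1, 2, 1, 2, 1, 2],
    [2, 2],
    [3, 2, 3, 2, 3, 2, 3, 2, 3, 2, 3, 2, 3, 2, 3, 2, 3, 2, 3, 2],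
    [4, 2, 4, 2],
    [5, 2, 5, 2],
    [6, 2, 6, 2],
    [0, 3, 0, 3],
    [1, 3, 1, 3],
    [2, 3, 2, 3, 2, 3, 2, 3, 2, 3, 2, 3, 2, 3, 2, 3, 2, 3, 2, 3],
    [3, 3],
    [4, 3, 4, 3, 4, 3],
    [5, 3, 5, 3, 5, 3],
    [6, 3, 6, 3, 6, 3],
    [0, 4, 0, 4],
    [1, 4, 1, 4],
    [2, 4, 2, 4],
    [3, 4, 3, 4, 3, 4],
    [4, 4],
    [5, 4, 5, 4],
    [6, 4, 6, 4],
    [0, 5, 0, 5],
    [1, 5, 1, 5],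
    [2, 5, 2, 5],
    [3, 5, 3, 5, 3, 5],
    [4, 5, 4, 5],
    [5, 5],
    [6, 5, 6, 5, 6, 5, 6, 5],
    [0, 6, 0, 6],
    [1, 6, 1, 6],
    [2, 6, 2, 6],
    [3, 6, 3, 6, 3, 6],
    [4, 6, 4, 6],
    [5, 6, 5, 6, 5, 6, 5, 6],
    [6, 6],
    [5, 6, 5, 6, 4],
    [0, 1, 2, 0, 1, 2, 0, 1, 2, 4],
    [2, 3, 2, 3, 2, 3, 2, 3, 2, 3, 0],
    [6, 5, 3, 2, 6, 5, 3, 2, 6, 5, 3, 2, 6, 5, 3, 2]]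

/-- Relator words checked on the table. -/
def halfWords : List (List Nat) :=
  [[0, 0],
    [1, 0, 1, 0, 1, 0, 1, 0],
    [2, 0, 2, 0],
    [3, 0, 3, 0],
    [4, 0, 4, 0],
    [5, 0, 5, 0],
    [6, 0, 6, 0],
    [1, 1],
    [2, 1, 2, 1, 2, 1],
    [3, 1, 3, 1],
    [4, 1, 4, 1],
    [5, 1, 5, 1],
    [6, 1, 6, 1],
    [2, 2],
    [3, 2, 3, 2, 3, 2, 3, 2, 3, 2, 3, 2, 3, 2, 3, 2, 3, 2, 3, 2],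
    [4, 2, 4, 2],
    [5, 2, 5, 2],
    [6, 2, 6, 2],
    [3, 3],
    [4, 3, 4, 3, 4, 3],
    [5, 3, 5, 3, 5, 3],
    [6, 3, 6, 3, 6, 3],
    [4, 4],
    [5, 4, 5, 4],
    [6, 4, 6, 4],
    [5, 5],
    [6, 5, 6, 5, 6, 5, 6, 5],
    [6, 6],
    [5, 6, 5, 6, 4],
    [0, 1, 2, 0, 1, 2, 0, 1, 2, 4],
    [2, 3, 2, 3, 2, 3, 2, 3, 2, 3, 0],
    [6, 5, 3, 2, 6, 5, 3, 2, 6, 5, 3, 2, 6, 5, 3, 2]]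

/-- The certificate. -/
def cert : IndexCert :=
  ⟨baseWords, halfWords, step⟩

end Cfsg.Lib.CosetEnum.HeS44
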