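import Cfsg.Agent.Lib.CosetEnum.HeS44.DefsPart0
import Cfsg.Agent.Lib.CosetEnum.HeS44.StepsPart0
import Cfsg.Agent.Lib.CosetEnum.HeS44.StepsPart1
import Cfsg.Agent.Lib.CosetEnum.HeS44.StepsPart2
import Cfsg.Agent.Lib.CosetEnum.HeS44.ClosedPart0
import Cfsg.Agent.Lib.CosetEnum.HeS44.PermPart0
import Cfsg.Agent.Lib.CosetEnum.HeS44.PermPart1

/-! Generated certificate. -/

set_option autoImplicit false
set_option maxRecDepth 20000

namespace Cfsg.Lib.CosetEnum.HeS44

theorem cert_valid : cert.Valid where
  valid :=
    { pos := by decide +kernel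
      shifts := by decide +kernel
      defs := (defsOK_append (a := 4000) (b := 1107) defs_0 defs_1)
      steps := (stepsOK_append (m := 4500) (n := 4099) (stepsOK_append (m := 1500) (n := 3000) steps_0 (stepsOK_append (m := 1500) (n := 1500) steps_1 steps_2)) (stepsOK_append (m := 1500) (n := 2599) steps_3 (stepsOK_append (m := 1500) (n := 1099) steps_4 steps_5)))
      closed := closed_0 }
  pos := by decide +kernel
  halves := by decide +kernel
  perm := (permOK_append (a := 900) (b := 1158) perm_0 (permOK_append (a := 900) (b := 258) perm_1 perm_2))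
  tree := by decide +kernel
  fix := by decide +kernel

theorem orb0_ok : orbitOK tabP orb0 pos0 7 2058 136 subWords 136 0 = true := by
  decide +kernel

theorem orb1_ok : orbitOK tabP orb1 pos1 7 2058 136 subWords 136 0 = true := by
  decide +kernel

theorem orb2_ok : orbitOK tabP orb2 pos2 7 2058 425 subWords 425 0 = true := by
  decide +kernel

theorem orb3_ok : orbitOK tabP orb3 pos3 7 2058 1360 subWords 1360 0 = true := by
  decide +kernel

end Cfsg.Lib.CosetEnum.HeS44
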